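import Groth.Agent.Lib.NodeDeform2.Local
import Groth.Agent.Lib.SmoothRank4.Ring
import Groth.Agent.Lib.SmoothRank4.FibreDim
import Groth.Agent.Lib.FibreDimRing.QFMap

/-!
# Smoothness off the closed fibre near a node
-/

set_option autoImplicit false
set_option linter.all false
set_option maxHeartbeats 800000
set_option backward.isDefEq.respectTransparency false

universe u

open IsLocalRing TensorProduct

namespace GrothLib.NodeDeform2

/-- In a noetherian local domain where every non-zero prime contains `u`, the maximal ideal is the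
only prime containing `u`. -/
theorem eq_maximal_of_mem {D : Type u} [CommRing D] [IsDomain D] [IsLocalRing D] [IsNoetherianRing D]
    {u : D} (hu : u ≠ 0) (hall : ∀ r : Ideal D, r.IsPrime → r ≠ ⊥ → u ∈ r) (r : Ideal D) [r.IsPrime]
    (hr : u ∈ r) : r = maximalIdeal D := by
  classical
  by_contra hne
  have hmin : ∀ p ∈ (Ideal.span {u}).minimalPrimes, p ≠ maximalIdeal D := by
    intro p hp he
    subst he
    refine hne (le_antisymm (IsLocalRing.le_maximalIdeal (Ideal.IsPrime.ne_top inferInstance)) ?_)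
    exact hp.2 ⟨inferInstance, (Ideal.span_singleton_le_iff_mem _).2 hr⟩
      (IsLocalRing.le_maximalIdeal (Ideal.IsPrime.ne_top inferInstance))
  have hfin := Ideal.finite_minimalPrimes_of_isNoetherianRing D (Ideal.span {u})
  obtain ⟨v, hvm, hv0⟩ : ∃ v ∈ maximalIdeal D, ∀ p ∈ (Ideal.span {u}).minimalPrimes, v ∉ p := by
    by_contra hcon
    push Not at hcon
    obtain ⟨p, hp, hle⟩ := ((maximalIdeal D).subset_union_prime_finite hfin (f := id) 0 0 fun p hp _ _ => hp.1.1).1
      fun v hv => by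
        obtain ⟨p, hp, hvp⟩ := hcon v hv
        exact Set.mem_biUnion hp hvp
    exact hmin p hp (le_antisymm (IsLocalRing.le_maximalIdeal hp.1.1.ne_top) hle)
  obtain ⟨pu, hpu⟩ := Ideal.nonempty_minimalPrimes (I := Ideal.span {u}) fun e => by
    exact Ideal.IsPrime.ne_top ‹r.IsPrime› (top_unique (e ▸ (Ideal.span_singleton_le_iff_mem _).2 hr))
  have hv : v ≠ 0 := fun e => hv0 pu hpu (e ▸ zero_mem _)
  obtain ⟨P, hP⟩ := Ideal.nonempty_minimalPrimes (I := Ideal.span {v}) fun e => by
    exact (maximalIdeal.isMaximal D).ne_top (top_unique (e ▸ (Ideal.span_singleton_le_iff_mem _).2 hvm))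
  haveI := hP.1.1
  have hvP : v ∈ P := (Ideal.span_singleton_le_iff_mem _).1 hP.1.2
  have huP : u ∈ P := hall P inferInstance fun e => hv (by rw [e] at hvP; exact hvP)
  obtain ⟨p', hp', hle⟩ := Ideal.exists_minimalPrimes_le ((Ideal.span_singleton_le_iff_mem _).2 huP)
  haveI := hp'.1.1
  have hlt : p' < P := lt_of_le_of_ne hle fun e => hv0 p' hp' (e ▸ hvP)
  have hbot : (⊥ : Ideal D) < p' := by
    refine bot_lt_iff_ne_bot.2 fun e => hu ?_
    have := (Ideal.span_singleton_le_iff_mem _).1 hp'.1.2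
    rwa [e] at this
  have h1 := Ideal.height_le_one_of_isPrincipal_of_mem_minimalPrimes (Ideal.span {v}) P hP
  have h2 := (Ideal.height_add_one_le_of_lt_of_isPrime hlt)
  have h3 := (Ideal.height_add_one_le_of_lt_of_isPrime hbot)
  have h4 : (1 : ℕ∞) + 1 ≤ P.height :=
    (add_le_add_left ((le_add_self).trans h3) 1).trans h2
  have h5 := h4.trans h1
  norm_num at h5

/-- Minimal primes are nilpotent up to a denominator. -/
theorem exists_pow_le_of_minimal {R : Type u} [CommRing R] [IsNoetherianRing R] (I q : Ideal R)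
    (hq : q ∈ I.minimalPrimes) : ∃ h ∉ q, ∃ n : ℕ, Ideal.span {h} * q ^ n ≤ I := by
  classical
  haveI := hq.1.1
  have hfin := Ideal.finite_minimalPrimes_of_isNoetherianRing R I
  let T := hfin.toFinset.erase q
  have hT : ∀ p ∈ T, ∃ x ∈ p, x ∉ q := by
    intro p hp
    rw [Finset.mem_erase, Set.Finite.mem_toFinset] at hp
    by_contra hcon
    push Not at hcon
    exact hp.1 (le_antisymm hcon (hq.2 hp.2.1 hcon))
  choose x hx hxq using hT
  let h := ∏ p ∈ T.attach, x p.1 p.2
  have hh : h ∉ q := fun hm => by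
    obtain ⟨p, -, hp⟩ := Ideal.IsPrime.prod_mem_iff.1 hm
    exact hxq _ _ hp
  obtain ⟨n, hn⟩ := Ideal.exists_radical_pow_le_of_fg I (IsNoetherian.noetherian _)
  refine ⟨h ^ n, fun hm => hh (Ideal.IsPrime.mem_of_pow_mem inferInstance n hm), n, ?_⟩
  rw [← Ideal.span_singleton_pow, ← mul_pow]
  refine (Ideal.pow_right_mono ?_ n).trans hn
  rw [← Ideal.sInf_minimalPrimes]
  refine le_sInf fun p hp => ?_
  by_cases hpq : p = q
  · subst hpq; exact (Ideal.mul_le_right : Ideal.span {h} * p ≤ p)
  · have hpT : p ∈ T := by rw [Finset.mem_erase, Set.Finite.mem_toFinset]; exact ⟨hpq, hp⟩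
    refine (Ideal.mul_le_left : Ideal.span {h} * q ≤ Ideal.span {h}).trans ((Ideal.span_singleton_le_iff_mem _).2 ?_)
    exact Ideal.prod_mem (I := p) (Finset.mem_attach _ (⟨p, hpT⟩ : {y // y ∈ T})) (hx p hpT)

section

variable {Λ A : Type u} [CommRing Λ] [CommRing A] [Algebra Λ A]

/-- If the fibre has dimension zero near `q`, then `q` is isolated for the order among primes of the fibre. -/
theorem eq_of_comparable [Algebra.FiniteType Λ A] (g : A) (B : Type u) [CommRing B] [Algebra Λ B]
    [Algebra A B] [IsScalarTower Λ A B] [IsLocalization.Away g B]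
    (qB : PrimeSpectrum B) (Q : PrimeSpectrum ((qB.asIdeal.under Λ).Fiber B))
    (hQ : Q.asIdeal.comap (Algebra.TensorProduct.includeRight.toRingHom) = qB.asIdeal)
    (hdim : FlatMor.localDim (PrimeSpectrum ((qB.asIdeal.under Λ).Fiber B)) Q ≤ 0)
    (r : Ideal A) [r.IsPrime] (hr₀ : r.under Λ = qB.asIdeal.under Λ)
    (hcmp : r ≤ qB.asIdeal.under A ∨ qB.asIdeal.under A ≤ r) : r = qB.asIdeal.under A := by
  classical
  let p₀ : PrimeSpectrum Λ := ⟨qB.asIdeal.under Λ, inferInstance⟩
  obtain ⟨a, ha, hdim'⟩ := GrothLib.FibreDimRing.exists_away_fiber_dim_le p₀ Q 0 hdim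
  rw [hQ] at ha
  let C := Localization.Away a
  obtain ⟨⟨a₁, ⟨_, k, rfl⟩⟩, ha₁⟩ := IsLocalization.surj (Submonoid.powers g) a
  simp only [map_pow] at ha₁
  haveI : IsLocalization.Away (algebraMap A B a₁) C := by
    refine IsLocalization.Away.of_associated (r := a) ?_
    rw [← ha₁]
    exact (associated_mul_unit_right a _ ((IsLocalization.Away.algebraMap_isUnit g).pow k))
  haveI : IsLocalization.Away (g * a₁) C := IsLocalization.Away.mul' B C g a₁
  let q := qB.asIdeal.under A
  have hgq : g ∉ q := fun hg =>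
    qB.isPrime.ne_top (Ideal.eq_top_of_isUnit_mem _ hg (IsLocalization.Away.algebraMap_isUnit g))
  have ha₁q : a₁ ∉ q := fun h => by
    have h' : algebraMap A B a₁ ∈ qB.asIdeal := h
    rw [← ha₁] at h'
    exact (qB.isPrime.mem_or_mem h').elim ha fun h'' =>
      qB.isPrime.ne_top (Ideal.eq_top_of_isUnit_mem _ h'' ((IsLocalization.Away.algebraMap_isUnit g).pow k))
  -- comparable primes avoiding the denominator are equal
  have key : ∀ (r r' : Ideal A), r.IsPrime → r'.IsPrime → g * a₁ ∉ r' → r.under Λ = p₀.asIdeal →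
      r'.under Λ = p₀.asIdeal → r ≤ r' → r = r' := by
    intro r r' hr hr' hg h0 h0' hle
    have hd : ∀ s : Ideal A, s ≤ r' → Disjoint (Submonoid.powers (g * a₁) : Set A) (s : Set A) := by
      intro s hs
      rw [Set.disjoint_left]
      rintro _ ⟨j, rfl⟩ hj
      exact hg (hr'.mem_of_pow_mem j (hs hj))
    have h1 := IsLocalization.isPrime_of_isPrime_disjoint (Submonoid.powers (g * a₁)) C r hr (hd r hle)
    have h2 := IsLocalization.isPrime_of_isPrime_disjoint (Submonoid.powers (g * a₁)) C r' hr' (hd r' le_rfl)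
    have c1 : (r.map (algebraMap A C)).comap (algebraMap A C) = r :=
      IsLocalization.comap_map_of_isPrime_disjoint (Submonoid.powers (g * a₁)) C hr (hd r hle)
    have c2 : (r'.map (algebraMap A C)).comap (algebraMap A C) = r' :=
      IsLocalization.comap_map_of_isPrime_disjoint (Submonoid.powers (g * a₁)) C hr' (hd r' le_rfl)
    have m1 : (⟨_, h1⟩ : PrimeSpectrum C) ∈ PrimeSpectrum.comap (algebraMap Λ C) ⁻¹' {p₀} := by
      refine PrimeSpectrum.ext ?_
      show Ideal.comap _ _ = p₀.asIdeal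
      rw [IsScalarTower.algebraMap_eq Λ A C, ← Ideal.comap_comap, c1]
      exact h0
    have m2 : (⟨_, h2⟩ : PrimeSpectrum C) ∈ PrimeSpectrum.comap (algebraMap Λ C) ⁻¹' {p₀} := by
      refine PrimeSpectrum.ext ?_
      show Ideal.comap _ _ = p₀.asIdeal
      rw [IsScalarTower.algebraMap_eq Λ A C, ← Ideal.comap_comap, c2]
      exact h0'
    let e := PrimeSpectrum.preimageOrderIsoFiber Λ C p₀
    have hle' : e ⟨_, m1⟩ ≤ e ⟨_, m2⟩ := e.monotone (Ideal.map_mono hle : r.map (algebraMap A C) ≤ _)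
    haveI : Ring.KrullDimLE 0 (p₀.asIdeal.Fiber C) := Ring.krullDimLE_iff.2 hdim'
    have heq : e ⟨_, m1⟩ = e ⟨_, m2⟩ :=
      PrimeSpectrum.ext ((Ideal.IsPrime.isMaximal' (e ⟨_, m1⟩).isPrime).eq_of_le (e ⟨_, m2⟩).isPrime.ne_top hle')
    have := congrArg (fun x => x.1.asIdeal.comap (algebraMap A C)) (e.injective heq)
    simpa only [c1, c2] using this
  have hga : g * a₁ ∉ q := fun h => (Ideal.IsPrime.mem_or_mem (inferInstance : q.IsPrime) h).elim hgq ha₁q
  have hq₀ : q.under Λ = p₀.asIdeal := Ideal.under_under (B := A) qB.asIdeal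
  rcases hcmp with hle | hle
  · exact key r q inferInstance inferInstance hga hr₀ hq₀ hle
  -- `q` is a closed point of its fibre
  let e := PrimeSpectrum.preimageOrderIsoFiber Λ A p₀
  let F := p₀.asIdeal.Fiber A
  let Qq : PrimeSpectrum F := e ⟨⟨q, inferInstance⟩, PrimeSpectrum.ext hq₀⟩
  let Qr : PrimeSpectrum F := e ⟨⟨r, inferInstance⟩, PrimeSpectrum.ext hr₀⟩
  let inc : A →+* F := (Algebra.TensorProduct.includeRight : A →ₐ[Λ] F).toRingHom
  have hsymm : ∀ M : PrimeSpectrum F, (e.symm M).1.asIdeal = M.asIdeal.comap inc := fun M =>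
    GrothLib.FibreDimAt6.fiberIso_symm_apply A p₀ M ▸ rfl
  have hQq : Qq.asIdeal.comap inc = q := by
    rw [← hsymm]
    exact congrArg (fun x => x.1.asIdeal) (e.symm_apply_apply ⟨⟨q, inferInstance⟩, PrimeSpectrum.ext hq₀⟩)
  haveI : IsJacobsonRing F := isJacobsonRing_of_finiteType (A := p₀.asIdeal.ResidueField) (B := F)
  have hnot : inc (g * a₁) ∉ Qq.asIdeal := fun h => hga (hQq ▸ h)
  have hJ : Qq.asIdeal.jacobson = Qq.asIdeal := IsJacobsonRing.out' Qq.asIdeal Qq.isPrime.isRadical
  rw [← hJ, Ideal.jacobson, Submodule.mem_sInf] at hnot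
  push Not at hnot
  obtain ⟨M, ⟨hqM, hMmax⟩, hM⟩ := hnot
  let MP : PrimeSpectrum F := ⟨M, hMmax.isPrime⟩
  have hMA : Ideal.comap inc M = q := by
    refine (key q _ inferInstance (hMmax.isPrime.comap inc) hM hq₀ ?_ ?_).symm
    · rw [← hsymm MP]
      exact congrArg PrimeSpectrum.asIdeal (e.symm MP).2
    · rw [← hQq]; exact Ideal.comap_mono hqM
  have hMQ : MP = Qq := e.symm.injective (Subtype.ext (PrimeSpectrum.ext (by rw [hsymm, hsymm, hMA, hQq])))
  have hQle : Qq ≤ Qr := e.monotone hle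
  have : Qq = Qr := by
    rw [← hMQ] at hQle ⊢
    exact PrimeSpectrum.ext (hMmax.eq_of_le Qr.isPrime.ne_top hQle)
  exact (congrArg (fun x => x.1.asIdeal) (e.injective this)).symm

/-- Differentials killed by a denominator modulo a cyclic submodule become cyclic. -/
theorem span_kaehler_eq_top (g : A) (ω : Ω[A⁄Λ]) (hg : ∀ z : Ω[A⁄Λ], g • z ∈ Submodule.span A {ω})
    (B : Type u) [CommRing B] [Algebra Λ B]
    [Algebra A B] [IsScalarTower Λ A B] [IsLocalization.Away g B] :
    Submodule.span B {KaehlerDifferential.map Λ Λ A B ω} = ⊤ := by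
  haveI := KaehlerDifferential.isLocalizedModule_map (R := Λ) (S := A) (T := B) (Submonoid.powers g)
  refine eq_top_iff.2 fun z _ => ?_
  obtain ⟨⟨z₀, ⟨_, k, rfl⟩⟩, hz⟩ := IsLocalizedModule.surj (Submonoid.powers g) (KaehlerDifferential.map Λ Λ A B) z
  obtain ⟨c, hc⟩ := Submodule.mem_span_singleton.1 (hg z₀)
  simp only [Submonoid.smul_def] at hz
  have hu := ((IsLocalization.Away.algebraMap_isUnit (S := B) g)).mul
    ((IsLocalization.Away.algebraMap_isUnit (S := B) g).pow k)
  obtain ⟨v, hv⟩ := hu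
  refine Submodule.mem_span_singleton.2 ⟨↑v⁻¹ * algebraMap A B c, ?_⟩
  rw [mul_smul, algebraMap_smul, ← LinearMap.map_smul_of_tower, hc, LinearMap.map_smul_of_tower, ← hz, smul_smul,
    ← algebraMap_smul B (g * g ^ k) z, smul_smul, map_mul, map_pow, ← hv, Units.inv_mul, one_smul]

end

section

variable {Λ A R : Type u} [CommRing Λ] [IsLocalRing Λ] [IsNoetherianRing Λ] [CommRing A] [Algebra Λ A]
  [CommRing R] [Algebra A R] [Algebra Λ R] [IsScalarTower Λ A R] [IsLocalRing R] [IsNoetherianRing R]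
  {u : Λ}

theorem one_le_localDim [Algebra.FiniteType Λ A] (hu : u ∈ maximalIdeal Λ)
    (hΛ : ∀ p p' : Ideal Λ, p.IsPrime → p'.IsPrime → p ≤ p' → u ∉ p' → p = p')
    (P : Ideal A) [P.IsPrime] [IsLocalization.AtPrime R P] (hR : HasNodeCompletion R u)
    (g : A) (B : Type u) [CommRing B] [Algebra Λ B]
    [Algebra A B] [IsScalarTower Λ A B] [IsLocalization.Away g B]
    (qB : PrimeSpectrum B) (hqP : qB.asIdeal.under A ≤ P) (huq : algebraMap Λ B u ∉ qB.asIdeal)
    (Q : PrimeSpectrum ((qB.asIdeal.under Λ).Fiber B))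
    (hQ : Q.asIdeal.comap (Algebra.TensorProduct.includeRight.toRingHom) = qB.asIdeal) :
    ((1 : ℕ) : WithBot ℕ∞) ≤ FlatMor.localDim (PrimeSpectrum ((qB.asIdeal.under Λ).Fiber B)) Q := by
  by_contra hlt
  have hdim : FlatMor.localDim (PrimeSpectrum ((qB.asIdeal.under Λ).Fiber B)) Q ≤ 0 := by
    rw [not_le] at hlt
    revert hlt
    generalize FlatMor.localDim (PrimeSpectrum ((qB.asIdeal.under Λ).Fiber B)) Q = d
    intro hlt
    induction d using WithBot.recBotCoe with
    | bot => exact bot_le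
    | coe d => exact WithBot.coe_le_coe.2 (ENat.lt_one_iff_eq_zero.1 (WithBot.coe_lt_coe.1 hlt)).le
  let q := qB.asIdeal.under A
  let q₀ := qB.asIdeal.under Λ
  have hq₀ : q.under Λ = q₀ := Ideal.under_under (B := A) qB.asIdeal
  have hu₀ : u ∉ q₀ := huq
  have hd : Disjoint (P.primeCompl : Set A) (q : Set A) := Set.disjoint_left.2 fun a ha h => ha (hqP h)
  let qR := q.map (algebraMap A R)
  haveI : qR.IsPrime := IsLocalization.isPrime_of_isPrime_disjoint P.primeCompl R q inferInstance hd
  have hc : qR.comap (algebraMap A R) = q :=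
    IsLocalization.comap_map_of_isPrime_disjoint P.primeCompl R inferInstance hd
  have hcR : qR.comap (algebraMap Λ R) = q₀ := by
    rw [IsScalarTower.algebraMap_eq Λ A R, ← Ideal.comap_comap, hc]
    exact hq₀
  have huR : algebraMap Λ R u ∉ qR := fun h => hu₀ (hcR ▸ h)
  have hiso : ∀ r : Ideal R, r.IsPrime → r.comap (algebraMap Λ R) = q₀ → (r ≤ qR ∨ qR ≤ r) → r = qR := by
    intro r hr h0 hcmp
    rw [← IsLocalization.map_comap P.primeCompl R r]
    refine congrArg (Ideal.map (algebraMap A R)) ?_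
    haveI := hr.comap (algebraMap A R)
    refine eq_of_comparable g B qB Q hQ hdim _ ?_ ?_
    · rw [Ideal.under_def, Ideal.comap_comap, ← IsScalarTower.algebraMap_eq]
      exact h0
    · show _ ≤ q ∨ q ≤ _
      rw [← hc]
      exact hcmp.imp Ideal.comap_mono Ideal.comap_mono
  have hle : q₀.map (algebraMap Λ R) ≤ qR := Ideal.map_le_iff_le_comap.2 hcR.ge
  refine false_of_isolated hR hu q₀ qR hle huR ?_ ?_
  · refine exists_pow_le_of_minimal _ _ ⟨⟨inferInstance, hle⟩, fun r hr hrq => (hiso r hr.1 ?_ (Or.inl hrq)).ge⟩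
    exact le_antisymm ((Ideal.comap_mono hrq).trans hcR.le) (Ideal.map_le_iff_le_comap.1 hr.2)
  · refine Ideal.exists_pow_le_of_le_radical_of_fg (I := maximalIdeal R)
      (J := qR ⊔ Ideal.span {algebraMap Λ R u}) ?_ (IsNoetherian.noetherian _)
    rw [Ideal.radical_eq_sInf]
    refine le_sInf fun r hr => ?_
    haveI := hr.2
    haveI : Nontrivial (R ⧸ qR) := Ideal.Quotient.nontrivial_iff.2 (Ideal.IsPrime.ne_top inferInstance)
    haveI : IsLocalRing (R ⧸ qR) := IsLocalRing.of_surjective' (Ideal.Quotient.mk qR) Ideal.Quotient.mk_surjective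
    let π := Ideal.Quotient.mk qR
    have hsurj : Function.Surjective π := Ideal.Quotient.mk_surjective
    have hker : RingHom.ker π = qR := Ideal.mk_ker
    have hr' : (r.map π).IsPrime := Ideal.map_isPrime_of_surjective hsurj (hker.le.trans (le_sup_left.trans hr.1))
    have h1 := eq_maximal_of_mem (u := π (algebraMap Λ R u)) (fun e => huR (Ideal.Quotient.eq_zero_iff_mem.1 e))
      (fun s hs hs0 => ?_) (r.map π) (Ideal.mem_map_of_mem _ (hr.1 (Ideal.mem_sup_right (Ideal.mem_span_singleton_self _))))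
    · have h2 : (r.map π).comap π = r := by
        rw [Ideal.comap_map_of_surjective' π hsurj, hker, sup_eq_left]
        exact le_sup_left.trans hr.1
      rw [← h2, h1, ← IsLocalRing.map_maximalIdeal_of_surjective π hsurj]
      exact Ideal.le_comap_map
    · by_contra hus
      have hqs : qR ≤ s.comap π := fun x hx => by
        rw [Ideal.mem_comap, Ideal.Quotient.eq_zero_iff_mem.2 hx]
        exact zero_mem _
      apply hs0
      rw [← Ideal.map_comap_of_surjective π hsurj s, hiso (s.comap π) (hs.comap π) ?_ (Or.inr hqs)]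
      · exact Ideal.map_quotient_self qR
      · refine (hΛ q₀ _ inferInstance ((hs.comap π).comap _) ?_ hus).symm
        rw [← hcR]
        exact Ideal.comap_mono hqs

/-- Off the closed fibre, a point specialising to a node has a standard smooth neighbourhood of relative dimension 1. -/
theorem exists_standardSmooth_near [Algebra.FinitePresentation Λ A] [Module.Flat Λ A] (hu : u ∈ maximalIdeal Λ)
    (hΛ : ∀ p p' : Ideal Λ, p.IsPrime → p'.IsPrime → p ≤ p' → u ∉ p' → p = p')
    (P : Ideal A) [P.IsPrime] [IsLocalization.AtPrime R P] (hR : HasNodeCompletion R u)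
    (q : Ideal A) [q.IsPrime] (hqP : q ≤ P) (huq : algebraMap Λ A u ∉ q) :
    ∃ g ∉ q, Algebra.IsStandardSmoothOfRelativeDimension 1 Λ (Localization.Away g) := by
  classical
  haveI : IsNoetherianRing A := Algebra.FiniteType.isNoetherianRing Λ A
  haveI := KaehlerDifferential.isLocalizedModule_map (R := Λ) (S := A) (T := R) P.primeCompl
  haveI : Module.Finite R Ω[R⁄Λ] :=
    Module.Finite.of_isLocalizedModule P.primeCompl (KaehlerDifferential.map Λ Λ A R)
  have hd : Disjoint (P.primeCompl : Set A) (q : Set A) := Set.disjoint_left.2 fun a ha h => ha (hqP h)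
  haveI : (q.map (algebraMap A R)).IsPrime := IsLocalization.isPrime_of_isPrime_disjoint P.primeCompl R q inferInstance hd
  have hc : (q.map (algebraMap A R)).comap (algebraMap A R) = q :=
    IsLocalization.comap_map_of_isPrime_disjoint P.primeCompl R inferInstance hd
  obtain ⟨ω, hω⟩ := exists_cyclic hR (q.map (algebraMap A R))
    (by rw [IsScalarTower.algebraMap_apply Λ A R]; exact fun h => huq (hc ▸ h))
    (KaehlerDifferential.D Λ R) (KaehlerDifferential.span_range_derivation Λ R)
  let φ := KaehlerDifferential.map Λ Λ A R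
  obtain ⟨⟨ω₀, s₀⟩, hω₀⟩ := IsLocalizedModule.surj P.primeCompl φ ω
  simp only [Submonoid.smul_def] at hω₀
  have hs₀ : IsUnit (algebraMap A R s₀) := IsLocalization.map_units R s₀
  have key : ∀ z : Ω[A⁄Λ], ∃ t ∉ q, t • z ∈ Submodule.span A {ω₀} := by
    intro z
    obtain ⟨s, hs, hz⟩ := hω (φ z)
    obtain ⟨c, hc'⟩ := Submodule.mem_span_singleton.1 hz
    obtain ⟨⟨s', ds⟩, hds⟩ := IsLocalization.surj P.primeCompl s
    obtain ⟨⟨c', dc⟩, hdc⟩ := IsLocalization.surj P.primeCompl c
    simp only at hds hdc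
    have hs' : s' ∉ q := fun h => by
      have h' : algebraMap A R s' ∈ q.map (algebraMap A R) := Ideal.mem_map_of_mem _ h
      rw [← hds] at h'
      exact (Ideal.IsPrime.mem_or_mem inferInstance h').elim hs fun h'' => Ideal.IsPrime.ne_top inferInstance
        (Ideal.eq_top_of_isUnit_mem _ h'' (IsLocalization.map_units R ds))
    have e : φ ((s' * dc * s₀ : A) • z) = φ ((c' * ds : A) • ω₀) := by
      rw [LinearMap.map_smul_of_tower, LinearMap.map_smul_of_tower, ← hω₀, ← algebraMap_smul R (s' * dc * s₀ : A),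
        ← algebraMap_smul R (c' * ds : A), ← algebraMap_smul R (s₀ : A) ω, smul_smul, map_mul, map_mul, map_mul,
        ← hds, ← hdc]
      rw [show s * algebraMap A R ds * algebraMap A R dc * algebraMap A R s₀ =
        (algebraMap A R ds * algebraMap A R dc * algebraMap A R s₀) * s by ring, mul_smul, ← hc', smul_smul]
      congr 1
      ring
    obtain ⟨t, ht⟩ := IsLocalizedModule.exists_of_eq (S := P.primeCompl) e
    simp only [Submonoid.smul_def, smul_smul] at ht
    refine ⟨t * (s' * dc * s₀), ?_, Submodule.mem_span_singleton.2 ⟨_, ht.symm⟩⟩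
    intro h
    rcases Ideal.IsPrime.mem_or_mem inferInstance h with h | h
    · exact t.2 (hqP h)
    rcases Ideal.IsPrime.mem_or_mem inferInstance h with h | h
    · rcases Ideal.IsPrime.mem_or_mem inferInstance h with h | h
      · exact hs' h
      · exact dc.2 (hqP h)
    · exact s₀.2 (hqP h)
  obtain ⟨gens, hgens⟩ := Module.Finite.fg_top (R := A) (M := Ω[A⁄Λ])
  choose t ht htz using key
  let g₁ := ∏ z ∈ gens, t z
  have hg₁ : g₁ ∉ q := fun h => by
    obtain ⟨z, -, hz⟩ := Ideal.IsPrime.prod_mem_iff.1 h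
    exact ht z hz
  have hg₁z : ∀ z : Ω[A⁄Λ], g₁ • z ∈ Submodule.span A {ω₀} := by
    intro z
    have hz : z ∈ Submodule.span A (gens : Set Ω[A⁄Λ]) := hgens ▸ trivial
    induction hz using Submodule.span_induction with
    | mem z hz =>
      rw [show g₁ = (∏ y ∈ gens.erase z, t y) * t z from (Finset.prod_erase_mul _ _ hz).symm, mul_smul]
      exact Submodule.smul_mem _ _ (htz z)
    | zero => rw [smul_zero]; exact zero_mem _
    | add x y _ _ hx hy => rw [smul_add]; exact add_mem hx hy
    | smul a x _ hx => rw [smul_comm]; exact Submodule.smul_mem _ _ hx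
  -- smoothness
  let B := Localization.Away g₁
  have hdB : Disjoint (Submonoid.powers g₁ : Set A) (q : Set A) := Set.disjoint_left.2 fun x hx h => by
    obtain ⟨j, rfl⟩ := hx; exact hg₁ (Ideal.IsPrime.mem_of_pow_mem inferInstance j h)
  let qB : PrimeSpectrum B := ⟨q.map (algebraMap A B),
    IsLocalization.isPrime_of_isPrime_disjoint (Submonoid.powers g₁) B q inferInstance hdB⟩
  have hcB : qB.asIdeal.under A = q := IsLocalization.comap_map_of_isPrime_disjoint (Submonoid.powers g₁) B inferInstance hdB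
  haveI := qB.isPrime
  haveI : Algebra.FinitePresentation A B := IsLocalization.Away.finitePresentation g₁
  haveI : Algebra.FinitePresentation Λ B := Algebra.FinitePresentation.trans Λ A B
  haveI : Module.Flat A B := IsLocalization.flat B (Submonoid.powers g₁)
  haveI : Module.Flat Λ B := Module.Flat.trans Λ A B
  have huB : algebraMap Λ B u ∉ qB.asIdeal := fun h => huq <| by
    rw [IsScalarTower.algebraMap_apply Λ A B] at h
    exact hcB ▸ h
  obtain ⟨Q, hQ⟩ := GrothLib.SmoothRank4.exists_fibre_point (R := Λ) qB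
  haveI : qB.asIdeal.LiesOver (qB.asIdeal.under Λ) := ⟨rfl⟩
  haveI : Algebra.IsSmoothAt Λ qB.asIdeal := GrothLib.SmoothRank4.isSmoothAt_of_span (qB.asIdeal.under Λ) qB.asIdeal Q hQ
    (fun _ : Fin 1 => KaehlerDifferential.map Λ Λ A B ω₀)
    (by rw [Set.range_const]; exact span_kaehler_eq_top g₁ ω₀ hg₁z B)
    (one_le_localDim hu hΛ P hR g₁ B qB (hcB.symm ▸ hqP) huB Q hQ)
  obtain ⟨g₂, hg₂, hss⟩ := Algebra.IsSmoothAt.exists_notMem_isStandardSmooth Λ qB.asIdeal
  obtain ⟨⟨a, ⟨_, k, rfl⟩⟩, ha⟩ := IsLocalization.surj (Submonoid.powers g₁) g₂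
  simp only [map_pow] at ha
  let C := Localization.Away g₂
  haveI : IsLocalization.Away (algebraMap A B a) C := by
    refine IsLocalization.Away.of_associated (r := g₂) ?_
    rw [← ha]
    exact (associated_mul_unit_right g₂ _ ((IsLocalization.Away.algebraMap_isUnit g₁).pow k))
  haveI : IsLocalization.Away (g₁ * a) C := IsLocalization.Away.mul' B C g₁ a
  have haq : a ∉ q := fun h => by
    have h' : algebraMap A B a ∈ qB.asIdeal := Ideal.mem_map_of_mem _ h
    rw [← ha] at h'
    exact (qB.isPrime.mem_or_mem h').elim hg₂ fun h'' => qB.isPrime.ne_top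
      (Ideal.eq_top_of_isUnit_mem _ h'' ((IsLocalization.Away.algebraMap_isUnit g₁).pow k))
  refine ⟨g₁ * a, fun h => (Ideal.IsPrime.mem_or_mem inferInstance h).elim hg₁ haq, ?_⟩
  suffices Algebra.IsStandardSmoothOfRelativeDimension 1 Λ C from
    Algebra.IsStandardSmoothOfRelativeDimension.of_algEquiv 1
      ((IsLocalization.algEquiv (Submonoid.powers (g₁ * a)) C (Localization.Away (g₁ * a))).restrictScalars Λ)
  haveI := hss
  have hdC : Disjoint (Submonoid.powers g₂ : Set B) (qB.asIdeal : Set B) := Set.disjoint_left.2 fun x hx h => by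
    obtain ⟨j, rfl⟩ := hx; exact hg₂ (qB.isPrime.mem_of_pow_mem j h)
  let qC : PrimeSpectrum C := ⟨qB.asIdeal.map (algebraMap B C),
    IsLocalization.isPrime_of_isPrime_disjoint (Submonoid.powers g₂) C qB.asIdeal qB.isPrime hdC⟩
  haveI := qC.isPrime
  haveI : Nontrivial C := ⟨⟨0, 1, fun h => qC.isPrime.ne_top ((Ideal.eq_top_iff_one _).2 (h ▸ zero_mem _))⟩⟩
  have hcCB : qC.asIdeal.under B = qB.asIdeal :=
    IsLocalization.comap_map_of_isPrime_disjoint (Submonoid.powers g₂) C qB.isPrime hdC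
  have hcC : qC.asIdeal.under A = q := by
    rw [← Ideal.under_under (B := B), hcCB, hcB]
  have huC : algebraMap Λ C u ∉ qC.asIdeal := fun h => huB <| by
    rw [IsScalarTower.algebraMap_apply Λ B C] at h
    exact hcCB ▸ h
  have hsp := span_kaehler_eq_top (g₁ * a) ω₀ (fun z => by
    rw [mul_comm, mul_smul]; exact Submodule.smul_mem _ _ (hg₁z z)) C
  have hrle : Module.rank C Ω[C⁄Λ] ≤ 1 := by
    rw [← rank_top, ← hsp]
    exact (rank_span_le _).trans (by simp)
  haveI := Algebra.IsStandardSmooth.free_kaehlerDifferential (R := Λ) (S := C)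
  have hfin : Module.rank C Ω[C⁄Λ] < Cardinal.aleph0 := hrle.trans_lt Cardinal.one_lt_aleph0
  let b := Module.finBasis C Ω[C⁄Λ]
  obtain ⟨QC, hQC⟩ := GrothLib.SmoothRank4.exists_fibre_point (R := Λ) qC
  have h1 := one_le_localDim hu hΛ P hR (g₁ * a) C qC (hcC.symm ▸ hqP) huC QC hQC
  rw [GrothLib.SmoothRank4.localDim_fiber_eq_of_basis (qC.asIdeal.under Λ) QC b] at h1
  rw [Algebra.IsStandardSmoothOfRelativeDimension.iff_of_isStandardSmooth]
  refine le_antisymm (by simpa using hrle) ?_
  rw [← Module.finrank_eq_rank]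
  exact_mod_cast h1

end

end GrothLib.NodeDeform2
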