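import Groth.Agent.Lib.NodeDeform2.Series

/-!
# A local ring whose completion is `Λ[[x,y]]/(xy - u)`
-/

set_option autoImplicit false
set_option linter.all false
set_option maxHeartbeats 800000

universe u

open IsLocalRing

namespace GrothLib.NodeDeform2

variable {Λ R : Type u} [CommRing Λ] [IsLocalRing Λ] [IsNoetherianRing Λ] [CommRing R] [IsLocalRing R]
  [IsNoetherianRing R] [Algebra Λ R] {u : Λ}

/-- The completion hypothesis. -/
def HasNodeCompletion (R : Type u) [CommRing R] [IsLocalRing R] [IsNoetherianRing R] [Algebra Λ R] (u : Λ) : Prop :=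
  ∃ e : AdicCompletion (maximalIdeal R) R ≃+* (MvPowerSeries (Fin 2) Λ ⧸ Ideal.span {rel u}),
    ∀ c : Λ, e (algebraMap R _ (algebraMap Λ R c)) = Ideal.Quotient.mk _ (MvPowerSeries.C c)

/-- The data of congruences coming from the completion. -/
structure Cong (R : Type u) [CommRing R] [IsLocalRing R] [IsNoetherianRing R] [Algebra Λ R] (u : Λ) where
  Φ : ∀ M : ℕ, MvPowerSeries (Fin 2) Λ →+* R ⧸ maximalIdeal R ^ M
  surj : ∀ M, Function.Surjective (Φ M)
  comm : ∀ M c, Φ M (MvPowerSeries.C c) = Ideal.Quotient.mk _ (algebraMap Λ R c)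
  rel_eq : ∀ M, Φ M (rel u) = 0
  compat : ∀ {M M' : ℕ} (h : M ≤ M') f, Ideal.Quotient.factor (Ideal.pow_le_pow_right h) (Φ M' f) = Φ M f
  π : MvPowerSeries (Fin 2) Λ →+* AdicCompletion (maximalIdeal R) R
  π_surj : Function.Surjective π
  π_eval : ∀ M f, AdicCompletion.evalₐ (maximalIdeal R) M (π f) = Φ M f
  π_comm : ∀ c, π (MvPowerSeries.C c) = algebraMap R _ (algebraMap Λ R c)
  π_ker : ∀ f, π f = 0 → f ∈ Ideal.span {rel u}
  π_rel : π (rel u) = 0

theorem nonempty_cong (h : HasNodeCompletion R u) : Nonempty (Cong R u) := by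
  obtain ⟨e, he⟩ := h
  let π : MvPowerSeries (Fin 2) Λ →+* AdicCompletion (maximalIdeal R) R :=
    e.symm.toRingHom.comp (Ideal.Quotient.mk _)
  have hc : ∀ c, π (MvPowerSeries.C c) = algebraMap R _ (algebraMap Λ R c) := fun c => by
    change e.symm (Ideal.Quotient.mk _ _) = _
    rw [← he, RingEquiv.symm_apply_apply]
  refine ⟨⟨fun M => (AdicCompletion.evalₐ (maximalIdeal R) M).toRingHom.comp π,
    fun M => (AdicCompletion.surjective_evalₐ _ M).comp (e.symm.surjective.comp Ideal.Quotient.mk_surjective),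
    fun M c => ?_, fun M => ?_, fun {M M'} h f => ?_, π, e.symm.surjective.comp Ideal.Quotient.mk_surjective,
    fun M f => rfl, hc, fun f hf => ?_, ?_⟩⟩
  · change AdicCompletion.evalₐ (maximalIdeal R) M (π _) = _
    rw [hc, AlgHom.commutes]
    rfl
  · change AdicCompletion.evalₐ (maximalIdeal R) M (e.symm (Ideal.Quotient.mk _ (rel u))) = 0
    rw [Ideal.Quotient.eq_zero_iff_mem.2 (Ideal.mem_span_singleton_self _), map_zero, map_zero]
  · obtain ⟨s, hs⟩ := AdicCompletion.mk_surjective (maximalIdeal R) R (π f)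
    change Ideal.Quotient.factor _ (AdicCompletion.evalₐ (maximalIdeal R) M' (π f)) =
      AdicCompletion.evalₐ (maximalIdeal R) M (π f)
    rw [← hs, AdicCompletion.evalₐ_mk, AdicCompletion.evalₐ_mk, Ideal.Quotient.factor_mk]
    refine (Ideal.Quotient.eq.2 ?_)
    have := (SModEq.sub_mem.1 (s.property h))
    rw [Ideal.smul_top_eq_map] at this
    have h2 : s.val M - s.val M' ∈ maximalIdeal R ^ M := by simpa using this
    rw [← neg_sub]
    exact neg_mem h2
  · rw [← Ideal.Quotient.eq_zero_iff_mem]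
    exact e.symm.injective (hf.trans (map_zero _).symm)
  · change e.symm (Ideal.Quotient.mk _ (rel u)) = 0
    rw [Ideal.Quotient.eq_zero_iff_mem.2 (Ideal.mem_span_singleton_self _), map_zero]

namespace Cong

variable (G : Cong R u)

theorem maximalIdeal_eq : maximalIdeal (AdicCompletion (maximalIdeal R) R) =
    (maximalIdeal (MvPowerSeries (Fin 2) Λ)).map G.π :=
  (IsLocalRing.map_maximalIdeal_of_surjective G.π G.π_surj).symm

theorem X_mem (i : Fin 2) : G.π (MvPowerSeries.X i) ∈ maximalIdeal (AdicCompletion (maximalIdeal R) R) := by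
  rw [G.maximalIdeal_eq]
  refine Ideal.mem_map_of_mem _ ?_
  rw [mem_maximalIdeal, mem_nonunits_iff, MvPowerSeries.isUnit_iff_constantCoeff, MvPowerSeries.constantCoeff_X]
  exact not_isUnit_zero

/-- Membership tested on the truncations is membership. -/
theorem mem_of_forall (I : Ideal R) {h : R}
    (hh : ∀ M, Ideal.Quotient.mk (maximalIdeal R ^ M) h ∈ I.map (Ideal.Quotient.mk (maximalIdeal R ^ M))) :
    h ∈ I := by
  by_contra hI
  have hne : (1 : R) ∉ maximalIdeal R := fun h1 => (maximalIdeal.isMaximal R).ne_top ((Ideal.eq_top_iff_one _).2 h1)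
  haveI : Nontrivial (R ⧸ I) := Ideal.Quotient.nontrivial_iff.2 fun e => hI (e ▸ trivial)
  haveI : IsLocalRing (R ⧸ I) := IsLocalRing.of_surjective' (Ideal.Quotient.mk I) Ideal.Quotient.mk_surjective
  apply hI
  rw [← Ideal.Quotient.eq_zero_iff_mem]
  have hm : (maximalIdeal R).map (Ideal.Quotient.mk I) = maximalIdeal (R ⧸ I) :=
    IsLocalRing.map_maximalIdeal_of_surjective _ Ideal.Quotient.mk_surjective
  have : Ideal.Quotient.mk I h ∈ ⨅ M : ℕ, maximalIdeal (R ⧸ I) ^ M := by
    rw [Submodule.mem_iInf]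
    intro M
    have h1 := hh M
    rw [Ideal.mem_map_iff_of_surjective _ Ideal.Quotient.mk_surjective] at h1
    obtain ⟨a, ha, hab⟩ := h1
    rw [Ideal.Quotient.eq] at hab
    have h2 : Ideal.Quotient.mk I (a - h) ∈ (maximalIdeal R ^ M).map (Ideal.Quotient.mk I) :=
      Ideal.mem_map_of_mem _ hab
    rw [map_sub, Ideal.Quotient.eq_zero_iff_mem.2 ha, zero_sub, neg_mem_iff, Ideal.map_pow, hm] at h2
    exact h2
  rwa [Ideal.iInf_pow_eq_bot_of_isLocalRing _ (maximalIdeal.isMaximal _).ne_top, Ideal.mem_bot] at this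

end Cong

/-- Differentials of such a ring are cyclic off the closed fibre. -/
theorem exists_cyclic (h : HasNodeCompletion R u) (q : Ideal R) [q.IsPrime] (hu : algebraMap Λ R u ∉ q)
    {Mo : Type u} [AddCommGroup Mo] [Module R Mo] [Module Λ Mo] [IsScalarTower Λ R Mo] [Module.Finite R Mo]
    (d : Derivation Λ R Mo) (hd : Submodule.span R (Set.range d) = ⊤) :
    ∃ ω : Mo, ∀ z : Mo, ∃ s ∉ q, s • z ∈ Submodule.span R {ω} := by
  classical
  obtain ⟨G⟩ := nonempty_cong h
  have hpow : ∀ (k : ℕ) (a : R), a ∈ (maximalIdeal R) ^ (k + 1) → d a ∈ (maximalIdeal R) ^ k • (⊤ : Submodule R Mo) := by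
    intro k
    induction k with
    | zero => intro a _; rw [pow_zero, Ideal.one_eq_top, Submodule.top_smul]; trivial
    | succ k ih =>
      intro a ha
      rw [pow_succ] at ha
      induction ha using Submodule.mul_induction_on' with
      | mem_mul_mem x hx y hy =>
        rw [Derivation.leibniz]
        refine add_mem (Submodule.smul_mem_smul hx trivial) ?_
        have := Submodule.smul_mem_smul hy (ih x hx)
        rw [← Submodule.mul_smul] at this
        rwa [← pow_succ'] at this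
      | add x _ y _ hx hy => rw [map_add]; exact add_mem hx hy
  -- approximations
  have hX : ∀ M : ℕ, ∃ a : R × R,
      Ideal.Quotient.mk ((maximalIdeal R) ^ M) a.1 = G.Φ M (MvPowerSeries.X 0) ∧
      Ideal.Quotient.mk ((maximalIdeal R) ^ M) a.2 = G.Φ M (MvPowerSeries.X 1) := fun M => by
    obtain ⟨a, ha⟩ := Ideal.Quotient.mk_surjective (G.Φ M (MvPowerSeries.X 0))
    obtain ⟨b, hb⟩ := Ideal.Quotient.mk_surjective (G.Φ M (MvPowerSeries.X 1))
    exact ⟨(a, b), ha, hb⟩
  choose a hxa hya using hX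
  let S : ℕ → Submodule R Mo := fun M => Submodule.span R {d (a M).1, d (a M).2}
  have hgen : ∀ M, 2 ≤ M → S M = ⊤ := by
    intro M hM
    refine eq_top_iff.2 (Submodule.le_of_le_smul_of_le_jacobson_bot (Module.Finite.fg_top (R := R) (M := Mo))
      (IsLocalRing.maximalIdeal_le_jacobson _) ?_)
    refine hd.ge.trans (Submodule.span_le.2 ?_)
    rintro _ ⟨r, rfl⟩
    -- expand `r` to first order
    obtain ⟨f, hf⟩ := G.surj M (Ideal.Quotient.mk ((maximalIdeal R) ^ M) r)
    let c := MvPowerSeries.constantCoeff f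
    let v₀ : MvPowerSeries (Fin 2) Λ := fun n => MvPowerSeries.coeff (n + Finsupp.single 0 1) f
    let v₁ : MvPowerSeries (Fin 2) Λ := fun n =>
      if n 0 = 0 then MvPowerSeries.coeff (n + Finsupp.single 1 1) f else 0
    have hfd : f = MvPowerSeries.C c + MvPowerSeries.X 0 * v₀ + MvPowerSeries.X 1 * v₁ := by
      ext n
      rw [map_add, map_add, MvPowerSeries.coeff_C, MvPowerSeries.X_def, MvPowerSeries.X_def,
        MvPowerSeries.coeff_monomial_mul, MvPowerSeries.coeff_monomial_mul]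
      by_cases h0 : Finsupp.single (0 : Fin 2) 1 ≤ n
      · have hn : n 0 ≠ 0 := fun e => by have := h0 0; simp [e] at this
        rw [if_neg (fun e => hn (by simp [e])), if_pos h0, zero_add, one_mul]
        have e0 : n - Finsupp.single (0 : Fin 2) 1 + Finsupp.single (0 : Fin 2) 1 = n := tsub_add_cancel_of_le h0
        rw [show MvPowerSeries.coeff (n - Finsupp.single (0 : Fin 2) 1) v₀ = MvPowerSeries.coeff n f from
          congrArg (fun k => MvPowerSeries.coeff k f) e0]
        split_ifs with h1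
        · rw [one_mul, show MvPowerSeries.coeff (n - Finsupp.single (1 : Fin 2) 1) v₁ = 0 from
            if_neg (by simp [hn]), add_zero]
        · rw [add_zero]
      · have hn : n 0 = 0 := by
          by_contra e
          exact h0 fun k => by fin_cases k <;> simp; omega
        by_cases h1 : Finsupp.single (1 : Fin 2) 1 ≤ n
        · have hn1 : n 1 ≠ 0 := fun e => by have := h1 1; simp [e] at this
          rw [if_neg (fun e => hn1 (by simp [e])), if_neg h0, if_pos h1, zero_add, zero_add, one_mul]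
          have e1 : n - Finsupp.single (1 : Fin 2) 1 + Finsupp.single (1 : Fin 2) 1 = n := tsub_add_cancel_of_le h1
          rw [show MvPowerSeries.coeff (n - Finsupp.single (1 : Fin 2) 1) v₁ = MvPowerSeries.coeff n f from
            (if_pos (by simp [hn])).trans (congrArg (fun k => MvPowerSeries.coeff k f) e1)]
        · have hn1 : n 1 = 0 := by
            by_contra e
            exact h1 fun k => by fin_cases k <;> simp; omega
          have hn0 : n = 0 := Finsupp.ext fun k => by fin_cases k <;> simp [hn, hn1]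
          rw [if_pos hn0, if_neg h0, if_neg h1, add_zero, add_zero, hn0]
          rfl
    obtain ⟨p₀, hp₀⟩ := Ideal.Quotient.mk_surjective (G.Φ M v₀)
    obtain ⟨p₁, hp₁⟩ := Ideal.Quotient.mk_surjective (G.Φ M v₁)
    have hmem : r - (algebraMap Λ R c + (a M).1 * p₀ + (a M).2 * p₁) ∈ (maximalIdeal R) ^ M := by
      rw [← Ideal.Quotient.eq, ← hf, hfd]
      simp only [map_add, map_mul, G.comm, hxa, hya, hp₀, hp₁]
    have hxm : ∀ (i : Fin 2) (x : R), Ideal.Quotient.mk ((maximalIdeal R) ^ M) x = G.Φ M (MvPowerSeries.X i) → x ∈ (maximalIdeal R) := by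
      intro i x hx
      have h1 := G.X_mem i
      rw [AdicCompletion.maximalIdeal_eq_map] at h1
      have h2 := Ideal.mem_map_of_mem (AdicCompletion.evalₐ (maximalIdeal R) M).toRingHom h1
      rw [Ideal.map_map, show (AdicCompletion.evalₐ (maximalIdeal R) M).toRingHom.comp (algebraMap R _) = Ideal.Quotient.mk ((maximalIdeal R) ^ M)
        from RingHom.ext fun z => (AdicCompletion.evalₐ (maximalIdeal R) M).commutes z] at h2
      change AdicCompletion.evalₐ (maximalIdeal R) M (G.π _) ∈ _ at h2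
      rw [G.π_eval, ← hx, Ideal.mem_map_iff_of_surjective _ Ideal.Quotient.mk_surjective] at h2
      obtain ⟨y, hy, hyx⟩ := h2
      rw [Ideal.Quotient.eq] at hyx
      have := sub_mem hy (Ideal.pow_le_self (by omega) hyx)
      rwa [sub_sub_cancel] at this
    have e : r = algebraMap Λ R c + (a M).1 * p₀ + (a M).2 * p₁ +
        (r - (algebraMap Λ R c + (a M).1 * p₀ + (a M).2 * p₁)) := by ring
    rw [SetLike.mem_coe, e, map_add, map_add, map_add, Derivation.map_algebraMap, zero_add, Derivation.leibniz,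
      Derivation.leibniz]
    refine add_mem (add_mem (add_mem ?_ ?_) (add_mem ?_ ?_)) ?_
    · exact Submodule.mem_sup_right (Submodule.smul_mem_smul (hxm 0 _ (hxa M)) trivial)
    · exact Submodule.mem_sup_left (Submodule.smul_mem _ _ (Submodule.subset_span (by simp)))
    · exact Submodule.mem_sup_right (Submodule.smul_mem_smul (hxm 1 _ (hya M)) trivial)
    · exact Submodule.mem_sup_left (Submodule.smul_mem _ _ (Submodule.subset_span (by simp)))
    · refine Submodule.mem_sup_right ?_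
      have h1 := hpow (M - 1) _ (by rw [Nat.sub_add_cancel (by omega : 1 ≤ M)]; exact hmem)
      exact Submodule.smul_mono_left (Ideal.pow_le_self (by omega)) h1
  by_contra hcon
  push Not at hcon
  -- for every `M` the approximation of `x` lies in `q` modulo `(maximalIdeal R)^(M-1)`
  have key : ∀ M, 2 ≤ M → ∃ β ∈ (maximalIdeal R) ^ (M - 1), (a M).1 - β ∈ q := by
    intro M hM
    have hmem : (a M).1 * (a M).2 - algebraMap Λ R u ∈ (maximalIdeal R) ^ M := by
      rw [← Ideal.Quotient.eq, map_mul, hxa, hya, ← G.comm, ← map_mul, ← sub_eq_zero, ← map_sub]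
      exact G.rel_eq M
    have h1 := hpow (M - 1) _ (by rw [Nat.sub_add_cancel (by omega : 1 ≤ M)]; exact hmem)
    rw [map_sub, Derivation.map_algebraMap, sub_zero, Derivation.leibniz, ← hgen M hM] at h1
    have h2 : ∀ z ∈ (maximalIdeal R) ^ (M - 1) • S M, ∃ α ∈ (maximalIdeal R) ^ (M - 1), ∃ β ∈ (maximalIdeal R) ^ (M - 1),
        z = α • d (a M).1 + β • d (a M).2 := by
      intro z hz
      induction hz using Submodule.smul_induction_on' with
      | smul r hr z hz =>
        obtain ⟨p, p', rfl⟩ := Submodule.mem_span_pair.1 hz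
        exact ⟨r * p, Ideal.mul_mem_right _ _ hr, r * p', Ideal.mul_mem_right _ _ hr,
          by rw [smul_add, mul_smul, mul_smul]⟩
      | add z _ z' _ h h' =>
        obtain ⟨α, hα, β, hβ, rfl⟩ := h
        obtain ⟨α', hα', β', hβ', rfl⟩ := h'
        exact ⟨α + α', add_mem hα hα', β + β', add_mem hβ hβ', by rw [add_smul, add_smul]; abel⟩
    obtain ⟨α, hα, β, hβ, hz⟩ := h2 _ h1
    refine ⟨β, hβ, ?_⟩
    by_contra hq
    obtain ⟨z, hz'⟩ := hcon (d (a M).1)
    apply hz' ((a M).1 - β) hq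
    have h3 : z ∈ S M := hgen M hM ▸ trivial
    obtain ⟨p, p', rfl⟩ := Submodule.mem_span_pair.1 h3
    have h4 : ((a M).1 - β) • d (a M).2 = (α - (a M).2) • d (a M).1 := by
      rw [sub_smul, sub_smul, sub_eq_sub_iff_add_eq_add, hz, add_comm]
    rw [smul_add, smul_comm _ p', h4, smul_smul, smul_smul, ← add_smul]
    exact Submodule.smul_mem _ _ (Submodule.mem_span_singleton_self _)
  refine hu (Cong.mem_of_forall q fun M => ?_)
  obtain ⟨β, hβ, hq⟩ := key (M + 2) (by omega)
  have hle : (maximalIdeal R) ^ (M + 2 - 1) ≤ (maximalIdeal R) ^ M := Ideal.pow_le_pow_right (by omega)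
  have hmem : (a (M + 2)).1 * (a (M + 2)).2 - algebraMap Λ R u ∈ (maximalIdeal R) ^ (M + 2) := by
    rw [← Ideal.Quotient.eq, map_mul, hxa, hya, ← G.comm, ← map_mul, ← sub_eq_zero, ← map_sub]
    exact G.rel_eq _
  rw [Ideal.mem_map_iff_of_surjective _ Ideal.Quotient.mk_surjective]
  refine ⟨((a (M + 2)).1 - β) * (a (M + 2)).2, Ideal.mul_mem_right _ _ hq, Ideal.Quotient.eq.2 ?_⟩
  have e : ((a (M + 2)).1 - β) * (a (M + 2)).2 - algebraMap Λ R u =
      ((a (M + 2)).1 * (a (M + 2)).2 - algebraMap Λ R u) - β * (a (M + 2)).2 := by ring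
  rw [e]
  exact sub_mem (Ideal.pow_le_pow_right (by omega) hmem) (Ideal.mul_mem_right _ _ (hle hβ))

/-- A prime off the closed fibre is not an isolated point of its fibre. -/
theorem false_of_isolated (h : HasNodeCompletion R u) (hu : u ∈ maximalIdeal Λ) (q₀ : Ideal Λ)
    (q : Ideal R) [q.IsPrime] (hq₀ : q₀.map (algebraMap Λ R) ≤ q) (huq : algebraMap Λ R u ∉ q)
    (hmin : ∃ h ∉ q, ∃ n : ℕ, Ideal.span {h} * q ^ n ≤ q₀.map (algebraMap Λ R))
    (hmax : ∃ N : ℕ, maximalIdeal R ^ N ≤ q ⊔ Ideal.span {algebraMap Λ R u}) : False := by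
  classical
  obtain ⟨G⟩ := nonempty_cong h
  obtain ⟨h₀, hh₀, n, hn⟩ := hmin
  obtain ⟨N₀, hN₀⟩ := hmax
  let N := N₀ + 1
  let ι := algebraMap R (AdicCompletion (maximalIdeal R) R)
  have hXN : ∀ i, G.π (MvPowerSeries.X i) ^ N ∈ (q ⊔ Ideal.span {algebraMap Λ R u}).map ι := fun i => by
    have h1 := Ideal.pow_mem_pow (G.X_mem i) N
    rw [AdicCompletion.maximalIdeal_eq_map, ← Ideal.map_pow] at h1
    exact Ideal.map_mono ((Ideal.pow_le_pow_right (Nat.le_succ _)).trans hN₀) h1
  obtain ⟨z, hz, v, hv, hzv⟩ : ∃ z ∈ q.map ι, ∃ v ∈ Ideal.span {ι (algebraMap Λ R u)},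
      z + v = G.π (MvPowerSeries.X 0) ^ N + G.π (MvPowerSeries.X 1) ^ N := by
    have h1 := add_mem (hXN 0) (hXN 1)
    rw [Ideal.map_sup, Ideal.map_span, Set.image_singleton] at h1
    exact Submodule.mem_sup.1 h1
  obtain ⟨w', rfl⟩ := Ideal.mem_span_singleton'.1 hv
  obtain ⟨w, rfl⟩ := G.π_surj w'
  let F : MvPowerSeries (Fin 2) Λ := MvPowerSeries.X 0 ^ N + MvPowerSeries.X 1 ^ N - MvPowerSeries.C u * w
  have hF : G.π F ∈ q.map ι := by
    simp only [F, map_sub, map_add, map_pow, map_mul, G.π_comm]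
    rw [← hzv, show z + G.π w * ι (algebraMap Λ R u) - ι (algebraMap Λ R u) * G.π w = z by ring]
    exact hz
  obtain ⟨H, hH⟩ := G.π_surj (ι h₀)
  have hker : RingHom.ker G.π = Ideal.span {rel u} := by
    refine le_antisymm G.π_ker ?_
    rw [Ideal.span_le, Set.singleton_subset_iff, SetLike.mem_coe]
    exact G.π_rel
  have hmap : (q₀.map (MvPowerSeries.C : Λ →+* MvPowerSeries (Fin 2) Λ)).map G.π =
      (q₀.map (algebraMap Λ R)).map ι := by
    rw [Ideal.map_map, Ideal.map_map]
    exact congrArg (fun φ => Ideal.map φ q₀) (RingHom.ext G.π_comm)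
  have hFn : H * F ^ n ∈ q₀.map (MvPowerSeries.C : Λ →+* MvPowerSeries (Fin 2) Λ) ⊔ Ideal.span {rel u} := by
    rw [← hker, ← Ideal.comap_map_of_surjective' G.π G.π_surj, Ideal.mem_comap, map_mul, map_pow, hH, hmap]
    have h1 : ι h₀ * G.π F ^ n ∈ (Ideal.span {h₀} * q ^ n).map ι := by
      rw [Ideal.map_mul, Ideal.map_pow]
      exact Ideal.mul_mem_mul (Ideal.mem_map_of_mem _ (Ideal.mem_span_singleton_self _)) (Ideal.pow_mem_pow hF n)
    exact Ideal.map_mono hn h1
  refine hh₀ (hq₀ (Cong.mem_of_forall _ fun r => ?_))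
  have hq₀le : q₀.map (MvPowerSeries.C : Λ →+* MvPowerSeries (Fin 2) Λ) ≤
      coeffIdeal (q₀ ⊔ maximalIdeal Λ ^ r) := by
    rw [Ideal.map_le_iff_le_comap]
    intro c hc k
    rw [MvPowerSeries.coeff_C]
    split_ifs
    · exact Ideal.mem_sup_left hc
    · exact zero_mem _
  have hit : ∀ k, H * F ^ k ∈ coeffIdeal (q₀ ⊔ maximalIdeal Λ ^ r) ⊔ Ideal.span {rel u} →
      H ∈ coeffIdeal (q₀ ⊔ maximalIdeal Λ ^ r) ⊔ Ideal.span {rel u} := by
    intro k
    induction k with
    | zero => intro hk; simpa using hk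
    | succ k ih =>
      intro hk
      refine ih (mem_of_mul_mem q₀ hu N (Nat.succ_pos _) w r _ ?_)
      rwa [mul_comm, mul_assoc, ← pow_succ]
  have hH' := hit n (sup_le_sup_right hq₀le _ hFn)
  have h2 : H ∈ (q₀ ⊔ maximalIdeal Λ ^ r).map (MvPowerSeries.C : Λ →+* MvPowerSeries (Fin 2) Λ) ⊔ Ideal.span {rel u} :=
    sup_le_sup_right (coeffIdeal_le_map (IsNoetherian.noetherian _)) _ hH'
  have h3 := Ideal.mem_map_of_mem (G.Φ r) h2
  rw [← G.π_eval, hH, AlgHom.commutes, Ideal.map_sup, Ideal.map_map, Ideal.map_span, Set.image_singleton,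
    G.rel_eq, Ideal.span_singleton_eq_bot.2 rfl, sup_bot_eq,
    show (G.Φ r).comp MvPowerSeries.C = (Ideal.Quotient.mk (maximalIdeal R ^ r)).comp (algebraMap Λ R) from
      RingHom.ext (G.comm r), ← Ideal.map_map, Ideal.map_sup, Ideal.map_sup] at h3
  refine (sup_le le_rfl ?_ : _ ≤ (q₀.map (algebraMap Λ R)).map (Ideal.Quotient.mk (maximalIdeal R ^ r))) h3
  rw [Ideal.map_le_iff_le_comap]
  intro z hz
  rw [Ideal.mem_comap, Ideal.Quotient.eq_zero_iff_mem.2 (?_ : z ∈ maximalIdeal R ^ r)]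
  · exact zero_mem _
  · refine (?_ : (maximalIdeal Λ ^ r).map (algebraMap Λ R) ≤ maximalIdeal R ^ r) hz
    rw [Ideal.map_pow]
    refine Ideal.pow_right_mono (Ideal.map_le_iff_le_comap.2 fun c hc => ?_) r
    have hX : G.π (MvPowerSeries.C c) ∈ maximalIdeal (AdicCompletion (maximalIdeal R) R) := by
      rw [G.maximalIdeal_eq]
      refine Ideal.mem_map_of_mem _ ?_
      rw [mem_maximalIdeal, mem_nonunits_iff, MvPowerSeries.isUnit_iff_constantCoeff, MvPowerSeries.constantCoeff_C]
      exact hc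
    rw [G.π_comm] at hX
    by_contra hcm
    exact (mem_maximalIdeal _).1 hX ((IsLocalRing.notMem_maximalIdeal.1 hcm).map _)

end GrothLib.NodeDeform2
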