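import Mathlib

/-!
# The element `x^N + y^N - u w` in `Λ[[x,y]]/(xy - u)`
-/

set_option autoImplicit false
set_option linter.all false

universe u

namespace GrothLib.NodeDeform2

variable (Λ : Type u) [CommRing Λ]

local notation "P" => MvPowerSeries (Fin 2) Λ

/-- Exponents of monomials in two variables. -/
noncomputable def ex (i j : ℕ) : Fin 2 →₀ ℕ := Finsupp.single 0 i + Finsupp.single 1 j

theorem ex_zero (i j : ℕ) : ex i j 0 = i := by simp [ex]
theorem ex_one (i j : ℕ) : ex i j 1 = j := by simp [ex]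

theorem ex_eta (n : Fin 2 →₀ ℕ) : ex (n 0) (n 1) = n :=
  Finsupp.ext fun k => by fin_cases k <;> simp [ex]

variable {Λ}

/-- Series with all coefficients in an ideal. -/
def coeffIdeal (I : Ideal Λ) : Ideal P where
  carrier := {f | ∀ n, MvPowerSeries.coeff n f ∈ I}
  add_mem' := fun h h' n => by rw [map_add]; exact add_mem (h n) (h' n)
  zero_mem' := fun n => by rw [map_zero]; exact zero_mem _
  smul_mem' := fun c f h n => by
    classical
    rw [smul_eq_mul, MvPowerSeries.coeff_mul]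
    exact sum_mem fun x _ => Ideal.mul_mem_left _ _ (h _)

theorem coeffIdeal_mono {I J : Ideal Λ} (h : I ≤ J) : coeffIdeal I ≤ coeffIdeal J := fun _ hf n => h (hf n)

theorem coeffIdeal_top : coeffIdeal (⊤ : Ideal Λ) = ⊤ := eq_top_iff.2 fun _ _ _ => trivial

theorem C_mul_mem {I J : Ideal Λ} {a : Λ} (hab : ∀ b ∈ I, a * b ∈ J) {f : P} (hf : f ∈ coeffIdeal I) :
    MvPowerSeries.C a * f ∈ coeffIdeal J := fun n => by
  rw [MvPowerSeries.coeff_C_mul]
  exact hab _ (hf n)

theorem coeffIdeal_le_map {I : Ideal Λ} (hI : I.FG) :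
    coeffIdeal I ≤ I.map (MvPowerSeries.C : Λ →+* P) := by
  classical
  obtain ⟨s, hs⟩ := hI
  intro f hf
  have hc : ∀ n, ∃ c : Λ → Λ, ∑ a ∈ s, c a • a = MvPowerSeries.coeff n f := fun n => by
    obtain ⟨c, -, hc⟩ := Submodule.mem_span_finset.1 (show MvPowerSeries.coeff n f ∈ Submodule.span Λ (s : Set Λ) by rw [← Ideal.submodule_span_eq] at hs; rw [hs]; exact hf n)
    exact ⟨c, hc⟩
  choose c hc using hc
  let g : Λ → P := fun a n => c n a
  have : f = ∑ a ∈ s, g a * MvPowerSeries.C a := by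
    ext n
    rw [map_sum, ← hc n]
    refine Finset.sum_congr rfl fun a _ => ?_
    rw [MvPowerSeries.coeff_mul_C]
    rfl
  rw [this]
  exact sum_mem fun a ha => Ideal.mul_mem_left _ _ (Ideal.mem_map_of_mem _ (hs ▸ Ideal.subset_span ha))

/-- The relation. -/
noncomputable def rel (u : Λ) : P := MvPowerSeries.X 0 * MvPowerSeries.X 1 - MvPowerSeries.C u

theorem coeff_xy_mul (s : P) (i j : ℕ) :
    MvPowerSeries.coeff (ex (i + 1) (j + 1)) (MvPowerSeries.X 0 * MvPowerSeries.X 1 * s) =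
      MvPowerSeries.coeff (ex i j) s := by
  have e : (ex (i + 1) (j + 1)) = ex 1 1 + ex i j := Finsupp.ext fun k => by fin_cases k <;> simp [ex] <;> omega
  have hm : (MvPowerSeries.X 0 * MvPowerSeries.X 1 : P) = MvPowerSeries.monomial (ex 1 1) 1 := by
    rw [MvPowerSeries.X_def, MvPowerSeries.X_def, MvPowerSeries.monomial_mul_monomial, one_mul]; rfl
  rw [hm, e, MvPowerSeries.coeff_add_monomial_mul, one_mul]

theorem coeff_xy_mul_zero (s : P) {n : Fin 2 →₀ ℕ} (h : n 0 = 0 ∨ n 1 = 0) :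
    MvPowerSeries.coeff n (MvPowerSeries.X 0 * MvPowerSeries.X 1 * s) = 0 := by
  classical
  have hm : (MvPowerSeries.X 0 * MvPowerSeries.X 1 : P) = MvPowerSeries.monomial (ex 1 1) 1 := by
    rw [MvPowerSeries.X_def, MvPowerSeries.X_def, MvPowerSeries.monomial_mul_monomial, one_mul]; rfl
  rw [hm, MvPowerSeries.coeff_monomial_mul, if_neg]
  intro hle
  have h0 := hle 0
  have h1 := hle 1
  rw [ex_zero] at h0
  rw [ex_one] at h1
  omega

variable [IsLocalRing Λ]

/-- `xy - u` is a nonzerodivisor modulo coefficient ideals. -/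
theorem rel_reflect (q₀ : Ideal Λ) {u : Λ} (hu : u ∈ IsLocalRing.maximalIdeal Λ) (r : ℕ) {s : P}
    (h : rel u * s ∈ coeffIdeal (q₀ ⊔ IsLocalRing.maximalIdeal Λ ^ r)) :
    s ∈ coeffIdeal (q₀ ⊔ IsLocalRing.maximalIdeal Λ ^ r) := by
  set J := q₀ ⊔ IsLocalRing.maximalIdeal Λ ^ r with hJ
  have key : ∀ (k i j : ℕ), ∃ t, MvPowerSeries.coeff (ex i j) s - u ^ k * t ∈ J := by
    intro k
    induction k with
    | zero => intro i j; exact ⟨_, by rw [pow_zero, one_mul, sub_self]; exact zero_mem _⟩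
    | succ k ih =>
      intro i j
      obtain ⟨t, ht⟩ := ih (i + 1) (j + 1)
      refine ⟨t, ?_⟩
      have h1 := h (ex (i + 1) (j + 1))
      rw [rel, sub_mul, map_sub, coeff_xy_mul, MvPowerSeries.coeff_C_mul] at h1
      have h2 := add_mem h1 (J.mul_mem_left u ht)
      convert h2 using 1
      ring
  intro n
  obtain ⟨t, ht⟩ := key r (n 0) (n 1)
  rw [ex_eta] at ht
  have : u ^ r * t ∈ J := J.mul_mem_right _ (Ideal.mem_sup_right (Ideal.pow_mem_pow hu r))
  simpa using add_mem ht this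

/-- `x^N + y^N - u w` is a nonzerodivisor on every truncation. -/
theorem mem_of_mul_mem (q₀ : Ideal Λ) {u : Λ} (hu : u ∈ IsLocalRing.maximalIdeal Λ) (N : ℕ) (hN : 0 < N) (w : P) :
    ∀ (r : ℕ) (b : P),
      (MvPowerSeries.X 0 ^ N + MvPowerSeries.X 1 ^ N - MvPowerSeries.C u * w) * b ∈
        coeffIdeal (q₀ ⊔ IsLocalRing.maximalIdeal Λ ^ r) ⊔ Ideal.span {rel u} →
      b ∈ coeffIdeal (q₀ ⊔ IsLocalRing.maximalIdeal Λ ^ r) ⊔ Ideal.span {rel u} := by
  classical
  intro r
  induction r with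
  | zero => intro b _; rw [pow_zero, Ideal.one_eq_top, sup_top_eq, coeffIdeal_top, top_sup_eq]; trivial
  | succ r ih =>
    intro b hb
    set m := IsLocalRing.maximalIdeal Λ
    set F : P := MvPowerSeries.X 0 ^ N + MvPowerSeries.X 1 ^ N - MvPowerSeries.C u * w with hF
    have hle : q₀ ⊔ m ^ (r + 1) ≤ q₀ ⊔ m ^ r := sup_le_sup_left (Ideal.pow_le_pow_right (Nat.le_succ r)) _
    obtain ⟨c, hc, t, ht, rfl⟩ := Submodule.mem_sup.1 (ih b (sup_le_sup_right (coeffIdeal_mono hle) _ hb))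
    have hc' : F * c ∈ coeffIdeal (q₀ ⊔ m ^ (r + 1)) ⊔ Ideal.span {rel u} := by
      have h2 : F * t ∈ coeffIdeal (q₀ ⊔ m ^ (r + 1)) ⊔ Ideal.span {rel u} :=
        Ideal.mem_sup_right (Ideal.mul_mem_left _ _ ht)
      have h3 := sub_mem hb h2
      rwa [mul_add, add_sub_cancel_right] at h3
    obtain ⟨e, he, z, hz, hez⟩ := Submodule.mem_sup.1 hc'
    obtain ⟨s, rfl⟩ := Ideal.mem_span_singleton'.1 hz
    have hs : s ∈ coeffIdeal (q₀ ⊔ m ^ r) := by
      refine rel_reflect q₀ hu r ?_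
      have h2 : F * c - e ∈ coeffIdeal (q₀ ⊔ m ^ r) := sub_mem (Ideal.mul_mem_left _ _ hc) (coeffIdeal_mono hle he)
      rwa [← hez, add_sub_cancel_left, mul_comm] at h2
    have hum : ∀ a ∈ q₀ ⊔ m ^ r, u * a ∈ q₀ ⊔ m ^ (r + 1) := by
      intro a ha
      obtain ⟨a₁, h1, a₂, h2, rfl⟩ := Submodule.mem_sup.1 ha
      rw [mul_add]
      refine add_mem (Ideal.mem_sup_left (q₀.mul_mem_left _ h1)) (Ideal.mem_sup_right ?_)
      rw [pow_succ']
      exact Ideal.mul_mem_mul hu h2
    -- modulo the next step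
    have h4 : (MvPowerSeries.X 0 ^ N + MvPowerSeries.X 1 ^ N) * c -
        MvPowerSeries.X 0 * MvPowerSeries.X 1 * s ∈ coeffIdeal (q₀ ⊔ m ^ (r + 1)) := by
      have h5 : (MvPowerSeries.X 0 ^ N + MvPowerSeries.X 1 ^ N) * c - MvPowerSeries.X 0 * MvPowerSeries.X 1 * s =
          e + MvPowerSeries.C u * (w * c) + (-1 : P) * (MvPowerSeries.C u * s) := by
        simp only [hF, rel] at hez
        linear_combination (-1 : P) * hez
      rw [h5]
      exact add_mem (add_mem he (C_mul_mem hum (Ideal.mul_mem_left _ _ hc)))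
        (Ideal.mul_mem_left _ _ (C_mul_mem hum hs))
    have haxis : ∀ n : Fin 2 →₀ ℕ, (n 0 = 0 ∨ n 1 = 0) → MvPowerSeries.coeff n c ∈ q₀ ⊔ m ^ (r + 1) := by
      intro n hn
      rcases hn with hn | hn
      · have h6 := h4 (Finsupp.single 1 N + n)
        rw [map_sub, coeff_xy_mul_zero _ (Or.inl (by simp [hn])), sub_zero, add_mul, map_add,
          MvPowerSeries.X_pow_eq, MvPowerSeries.X_pow_eq, MvPowerSeries.coeff_monomial_mul, if_neg,
          MvPowerSeries.coeff_add_monomial_mul, one_mul, zero_add] at h6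
        · exact h6
        · intro hle'
          have := hle' 0
          simp [hn] at this
          omega
      · have h6 := h4 (Finsupp.single 0 N + n)
        rw [map_sub, coeff_xy_mul_zero _ (Or.inr (by simp [hn])), sub_zero, add_mul, map_add,
          MvPowerSeries.X_pow_eq, MvPowerSeries.X_pow_eq, MvPowerSeries.coeff_add_monomial_mul, one_mul,
          MvPowerSeries.coeff_monomial_mul, if_neg, add_zero] at h6
        · exact h6
        · intro hle'
          have := hle' 1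
          simp [hn] at this
          omega
    let c' : P := fun n => MvPowerSeries.coeff (ex (n 0 + 1) (n 1 + 1)) c
    have hc'm : c' ∈ coeffIdeal (q₀ ⊔ m ^ r) := fun n => hc _
    have h7 : c - MvPowerSeries.X 0 * MvPowerSeries.X 1 * c' ∈ coeffIdeal (q₀ ⊔ m ^ (r + 1)) := by
      intro n
      by_cases hn : n 0 = 0 ∨ n 1 = 0
      · rw [map_sub, coeff_xy_mul_zero _ hn, sub_zero]
        exact haxis n hn
      · push Not at hn
        obtain ⟨i, hi⟩ := Nat.exists_eq_succ_of_ne_zero hn.1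
        obtain ⟨j, hj⟩ := Nat.exists_eq_succ_of_ne_zero hn.2
        rw [map_sub, ← ex_eta n, hi, hj, coeff_xy_mul,
          show MvPowerSeries.coeff (ex i j) c' = MvPowerSeries.coeff (ex (i + 1) (j + 1)) c by
            change MvPowerSeries.coeff (ex (ex i j 0 + 1) (ex i j 1 + 1)) c = _; rw [ex_zero, ex_one],
          sub_self]
        exact zero_mem _
    refine add_mem ?_ (Ideal.mem_sup_right ht)
    have h8 : c = ((c - MvPowerSeries.X 0 * MvPowerSeries.X 1 * c') + MvPowerSeries.C u * c') + c' * rel u := by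
      rw [rel]; ring
    rw [h8]
    exact add_mem (Ideal.mem_sup_left (add_mem h7 (C_mul_mem hum hc'm)))
      (Ideal.mem_sup_right (Ideal.mul_mem_left _ _ (Ideal.mem_span_singleton_self _)))

end GrothLib.NodeDeform2
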